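import Cfsg.Agent.H36.Om7.Defs

/-!
# S3691, row `PΩ⁺₈(q)`, SPIN: `OY`, `DY` (helper36)

* `eO : OY Q Y ≃* O (res Q Y)`, `eD : DY Q Y ≃* ⁅O (res Q Y), O (res Q Y)⁆` for `Y` nondegenerate;
* `cj_DY`, `DY_mono`, `DY_le_E`, `comm_of_orth`, `refl_mem_OY`, `refl_mul_refl_mem_DY`.
-/

set_option autoImplicit false

namespace Cfsg.Agent.H36.Om7

open Module QuadraticMap Cfsg.Agent.LieClassical.OrthCore Cfsg.Agent.LieClassical.OrthTrans
  Cfsg.Agent.LieClassical.OrthFinite Cfsg.Agent.H883.Sub Cfsg.Agent.H883.Root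
open scoped commutatorElement

variable {F V : Type*} [Field F] [AddCommGroup V] [Module F V] {Q : QuadraticForm F V} {Y Y' : Submodule F V}

theorem OY_le_O : OY Q Y ≤ O Q := fun _ h => h.1

theorem OY_mono (h : Y ≤ Y') : OY Q Y ≤ OY Q Y' := fun _ hg => ⟨hg.1, fun v hv => hg.2 v (perp_anti h hv)⟩

theorem DY_mono (h : Y ≤ Y') : DY Q Y ≤ DY Q Y' := Subgroup.commutator_mono (OY_mono h) (OY_mono h)

theorem DY_le_OY : DY Q Y ≤ OY Q Y := Subgroup.commutator_le_self _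

theorem DY_le_O : DY Q Y ≤ O Q := DY_le_OY.trans OY_le_O

theorem DY_le_comm : DY Q Y ≤ ⁅O Q, O Q⁆ := Subgroup.commutator_mono OY_le_O OY_le_O

theorem DY_le_E (hG : Good Q) : DY Q Y ≤ E Q := hG.commutator_eq_E ▸ DY_le_comm

/-- conjugation -/
theorem map_perp {g : V ≃ₗ[F] V} (hg : g ∈ O Q) (Y : Submodule F V) :
    perp Q (Y.map (g : V →ₗ[F] V)) = (perp Q Y).map (g : V →ₗ[F] V) := by
  ext v
  rw [mem_perp]
  constructor
  · intro h
    refine ⟨g.symm v, ?_, g.apply_symm_apply v⟩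
    show g.symm v ∈ perp Q Y
    rw [mem_perp]
    intro w hw
    have h1 := h (g w) ⟨w, hw, rfl⟩
    rw [← polar_map hg, g.apply_symm_apply]
    exact h1
  · rintro ⟨x, hx, rfl⟩ _ ⟨w, hw, rfl⟩
    change polar Q (g w) (g x) = 0
    rw [polar_map hg]
    exact hx w hw

theorem conj_OY_le {g : V ≃ₗ[F] V} (hg : g ∈ O Q) (Y : Submodule F V) :
    (OY Q Y).map (MulAut.conj g).toMonoidHom ≤ OY Q (Y.map (g : V →ₗ[F] V)) := by
  rintro _ ⟨h, hh, rfl⟩
  refine ⟨mul_mem (mul_mem hg hh.1) (inv_mem hg), fun v hv => ?_⟩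
  rw [map_perp hg] at hv
  obtain ⟨x, hx, rfl⟩ := hv
  change g (h (g.symm (g x))) = g x
  rw [g.symm_apply_apply, hh.2 x hx]

theorem map_map_symm {g : V ≃ₗ[F] V} (Y : Submodule F V) :
    (Y.map (g : V →ₗ[F] V)).map ((g⁻¹ : V ≃ₗ[F] V) : V →ₗ[F] V) = Y := by
  rw [← Submodule.map_comp]
  have e : ((g⁻¹ : V ≃ₗ[F] V) : V →ₗ[F] V).comp (g : V →ₗ[F] V) = LinearMap.id :=
    LinearMap.ext fun v => g.symm_apply_apply v
  rw [e, Submodule.map_id]

theorem conj_OY {g : V ≃ₗ[F] V} (hg : g ∈ O Q) (Y : Submodule F V) :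
    (OY Q Y).map (MulAut.conj g).toMonoidHom = OY Q (Y.map (g : V →ₗ[F] V)) := by
  apply le_antisymm (conj_OY_le hg Y)
  intro h hh
  have h1 := conj_OY_le (inv_mem hg) (Y.map (g : V →ₗ[F] V)) ⟨h, hh, rfl⟩
  rw [map_map_symm] at h1
  refine ⟨_, h1, ?_⟩
  change g * (g⁻¹ * h * g⁻¹⁻¹) * g⁻¹ = h
  group

/-- `g Ω(Y) g⁻¹ = Ω(g Y)` -/
theorem cj_DY {g : V ≃ₗ[F] V} (hg : g ∈ O Q) (Y : Submodule F V) :
    (DY Q Y).map (MulAut.conj g).toMonoidHom = DY Q (Y.map (g : V →ₗ[F] V)) := by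
  rw [DY, DY, Subgroup.map_commutator, conj_OY hg]

/-- the isometries of orthogonal subspaces commute -/
theorem comm_of_orth [FiniteDimensional F V] (hY : NondegOn Q Y) (h : ∀ y ∈ Y, ∀ z ∈ Y', polar Q y z = 0)
    {g k : V ≃ₗ[F] V} (hg : g ∈ OY Q Y) (hk : k ∈ OY Q Y') : g * k = k * g := by
  have h1 : ∀ y ∈ Y, k y = y := fun y hy => hk.2 y (mem_perp.2 fun z hz => by rw [polar_comm]; exact h y hy z hz)
  ext1 x
  obtain ⟨y, hy, z, hz, rfl⟩ := hY.exists_decomp x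
  have h2 : k z ∈ perp Q Y := by
    rw [mem_perp]
    intro y hy
    rw [← h1 y hy, polar_map hk.1]
    exact hz y hy
  have h3 : k (g y) = g y := by
    apply hk.2
    rw [mem_perp]
    intro a ha
    have h4 : g a = a := hg.2 a (mem_perp.2 fun y hy => h y hy a ha)
    rw [← h4, polar_map hg.1, polar_comm]
    exact h y hy a ha
  rw [LinearEquiv.mul_apply, LinearEquiv.mul_apply, map_add, map_add, map_add, map_add, h1 y hy, hg.2 _ h2, h3,
    hg.2 z hz]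

section refl

theorem refl_mem_OY {a : V} (ha : Q a ≠ 0) (h : a ∈ Y) : refl Q a ha ∈ OY Q Y := by
  refine ⟨refl_mem_O ha, fun v hv => ?_⟩
  rw [refl_apply, mem_perp.1 hv a h]
  simp

theorem siegel_mem_OY {u w : V} (hu : Q u = 0) (hw : polar Q u w = 0) (huY : u ∈ Y) (hwY : w ∈ Y) :
    siegel Q u w hu hw ∈ OY Q Y :=
  ⟨siegel_mem_O hu hw, fun _ hv => siegel_fix hu hw (mem_perp.1 hv u huY) (mem_perp.1 hv w hwY)⟩

/-- the product of the reflections in two vectors of `Y` of the same norm -/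
theorem refl_mul_refl_mem_DY {a d : V} (ha : Q a ≠ 0) (hd : Q d ≠ 0) (haY : a ∈ Y) (hdY : d ∈ Y) (h : Q a = Q d)
    (hc : Q (d - a) ≠ 0) : refl Q a ha * refl Q d hd ∈ DY Q Y := by
  have h0 : refl Q (d - a) hc d = a := refl_sub_apply h hc
  have h1 : refl Q (d - a) hc a = d := by
    have h2 : (refl Q (d - a) hc * refl Q (d - a) hc) d = d := by
      rw [refl_mul_self]
      rfl
    rwa [LinearEquiv.mul_apply, h0] at h2
  have h2 := refl_conj (refl_mem_O hc) ha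
  have h3 : refl Q a ha * refl Q d hd = ⁅refl Q a ha, refl Q (d - a) hc⁆ := by
    rw [commutatorElement_def, refl_inv, refl_inv]
    have h4 : refl Q (d - a) hc * refl Q a ha * (refl Q (d - a) hc)⁻¹ = refl Q d hd := by
      rw [h2 (by rw [h1]; exact hd)]
      congr 1
    rw [← h4, refl_inv]
    group
  rw [h3]
  exact Subgroup.commutator_mem_commutator (refl_mem_OY ha haY) (refl_mem_OY hc (sub_mem hdY haY))

end refl

section res

variable [FiniteDimensional F V]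

theorem OY_map_le (hQ : Nondeg Q) {g : V ≃ₗ[F] V} (hg : g ∈ OY Q Y) {y : V} (hy : y ∈ Y) : g y ∈ Y := by
  rw [← perp_perp hQ Y, mem_perp]
  intro z hz
  rw [← hg.2 z hz, polar_map hg.1]
  exact mem_perp'.1 hz y hy

theorem OY_map (hQ : Nondeg Q) {g : V ≃ₗ[F] V} (hg : g ∈ OY Q Y) : Y.map (g : V →ₗ[F] V) = Y := by
  apply Submodule.eq_of_le_of_finrank_le
  · rintro _ ⟨y, hy, rfl⟩
    exact OY_map_le hQ hg hy
  · rw [LinearEquiv.finrank_map_eq]

/-- restriction -/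
def rO (hQ : Nondeg Q) (Y : Submodule F V) : OY Q Y →* O (res Q Y) where
  toFun g := ⟨LinearEquiv.ofSubmodules g.1 Y Y (OY_map hQ g.2), fun v => g.2.1 v⟩
  map_one' := by
    apply Subtype.ext
    ext v
    rfl
  map_mul' g h := by
    apply Subtype.ext
    ext v
    rfl

theorem rO_apply (hQ : Nondeg Q) (g : OY Q Y) (y : Y) : (((rO hQ Y g : O (res Q Y)) : Y ≃ₗ[F] Y) y : V) = g.1 y := rfl

theorem rO_bij (hQ : Nondeg Q) (hY : NondegOn Q Y) : Function.Bijective (rO hQ Y) := by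
  constructor
  · intro g h hgh
    apply Subtype.ext
    ext1 v
    obtain ⟨y, hy, z, hz, rfl⟩ := hY.exists_decomp v
    rw [map_add, map_add, g.2.2 z hz, h.2.2 z hz]
    congr 1
    exact congrArg (fun k : O (res Q Y) => ((k.1 ⟨y, hy⟩ : Y) : V)) hgh
  · intro k
    obtain ⟨g, hg, h1, h2⟩ := exists_extend hY (g₁ := k.1) (fun w => k.2 w)
    refine ⟨⟨g, hg, h2⟩, ?_⟩
    apply Subtype.ext
    ext y
    exact h1 y

/-- `OY Q Y ≃* O (res Q Y)` -/
noncomputable def eO (hQ : Nondeg Q) (hY : NondegOn Q Y) : OY Q Y ≃* O (res Q Y) :=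
  MulEquiv.ofBijective (rO hQ Y) (rO_bij hQ hY)

theorem eO_apply (hQ : Nondeg Q) (hY : NondegOn Q Y) (g : OY Q Y) (y : Y) :
    (((eO hQ hY g : O (res Q Y)) : Y ≃ₗ[F] Y) y : V) = g.1 y := rfl

/-- the image of a commutator subgroup in the ambient group -/
theorem map_comm_subtype {G : Type*} [Group G] (H : Subgroup G) : (⁅(⊤ : Subgroup H), ⊤⁆ : Subgroup H).map H.subtype = ⁅H, H⁆ := by
  rw [Subgroup.map_commutator, ← MonoidHom.range_eq_map, Subgroup.range_subtype]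

/-- the commutator subgroup of `H` as a subgroup of the ambient group -/
noncomputable def eComm {G : Type*} [Group G] (H : Subgroup G) :
    (⁅(⊤ : Subgroup H), ⊤⁆ : Subgroup H) ≃* (⁅H, H⁆ : Subgroup G) :=
  ((⁅(⊤ : Subgroup H), ⊤⁆ : Subgroup H).equivMapOfInjective H.subtype H.subtype_injective).trans
    (MulEquiv.subgroupCongr (map_comm_subtype H))

theorem eComm_coe {G : Type*} [Group G] (H : Subgroup G) (x : (⁅(⊤ : Subgroup H), ⊤⁆ : Subgroup H)) :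
    ((eComm H x : (⁅H, H⁆ : Subgroup G)) : G) = ((x : H) : G) := rfl

theorem map_top_comm {G H : Type*} [Group G] [Group H] (e : G ≃* H) :
    (⁅(⊤ : Subgroup G), ⊤⁆ : Subgroup G).map (e : G →* H) = ⁅(⊤ : Subgroup H), ⊤⁆ := by
  rw [Subgroup.map_commutator, Subgroup.map_top_of_surjective _ e.surjective]

/-- isomorphic groups have isomorphic commutator subgroups -/
noncomputable def topComm {G H : Type*} [Group G] [Group H] (e : G ≃* H) :
    (⁅(⊤ : Subgroup G), ⊤⁆ : Subgroup G) ≃* (⁅(⊤ : Subgroup H), ⊤⁆ : Subgroup H) :=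
  (e.subgroupMap _).trans (MulEquiv.subgroupCongr (map_top_comm e))

theorem topComm_coe {G H : Type*} [Group G] [Group H] (e : G ≃* H) (x : (⁅(⊤ : Subgroup G), ⊤⁆ : Subgroup G)) :
    ((topComm e x : (⁅(⊤ : Subgroup H), ⊤⁆ : Subgroup H)) : H) = e x := rfl

/-- `DY Q Y ≃* ⁅O (res Q Y), O (res Q Y)⁆` -/
noncomputable def eD (hQ : Nondeg Q) (hY : NondegOn Q Y) :
    DY Q Y ≃* (⁅O (res Q Y), O (res Q Y)⁆ : Subgroup (Y ≃ₗ[F] Y)) :=
  (eComm (OY Q Y)).symm.trans ((topComm (eO hQ hY)).trans (eComm (O (res Q Y))))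

theorem eD_apply (hQ : Nondeg Q) (hY : NondegOn Q Y) (g : DY Q Y) (y : Y) :
    (((eD hQ hY g : (⁅O (res Q Y), O (res Q Y)⁆ : Subgroup (Y ≃ₗ[F] Y))) : Y ≃ₗ[F] Y) y : V) = g.1 y := by
  obtain ⟨x, rfl⟩ := (eComm (OY Q Y)).surjective g
  have h1 : eD hQ hY (eComm (OY Q Y) x) =
      eComm (O (res Q Y)) (topComm (eO hQ hY) ((eComm (OY Q Y)).symm (eComm (OY Q Y) x))) := rfl
  rw [h1, MulEquiv.symm_apply_apply]
  rfl

end res

end Cfsg.Agent.H36.Om7
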